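import Groth.Agent.FtPtsLib.Ring

/-!
# Finite type points of a scheme

`S.fromSpecResidueField u` is locally of finite type iff `u` is closed in some affine open, and a
morphism from the spectrum of a field is locally of finite type iff moreover the residue extension
is finite.
-/

universe u

open AlgebraicGeometry CategoryTheory TopologicalSpace

namespace Groth.Agent.FtPtsLib

variable {S : Scheme.{u}}

/-- `u` is closed in some affine open neighbourhood. -/
def ClosedInAffine (u : S) : Prop :=
  ∃ U : S.Opens, IsAffineOpen U ∧ ∃ hu : u ∈ U, IsClosed ({⟨u, hu⟩} : Set ↥U)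

lemma closedInAffine_of_specField {k : Type u} [Field k] (f : Spec (CommRingCat.of k) ⟶ S)
    [LocallyOfFiniteType f] (x : Spec (CommRingCat.of k)) : ClosedInAffine (f.base x) := by
  haveI : Subsingleton (Spec (CommRingCat.of k)) :=
    inferInstanceAs (Subsingleton (PrimeSpectrum k))
  obtain ⟨_, ⟨V, hV, rfl⟩, huV, -⟩ :=
    S.isBasis_affineOpens.exists_subset_of_mem_open (Set.mem_univ (f.base x)) isOpen_univ
  have hle : Set.range f ⊆ Set.range hV.fromSpec := by
    rw [IsAffineOpen.range_fromSpec]
    rintro _ ⟨y, rfl⟩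
    rw [Subsingleton.elim y x]; exact huV
  obtain ⟨ψ, hψ⟩ := Spec.map_surjective (IsOpenImmersion.lift hV.fromSpec f hle)
  have hfac : Spec.map ψ ≫ hV.fromSpec = f := by rw [hψ, IsOpenImmersion.lift_fac]
  haveI : LocallyOfFiniteType (Spec.map ψ ≫ hV.fromSpec) := hfac.symm ▸ ‹_›
  have hft : ψ.hom.FiniteType := (HasRingHomProperty.Spec_iff (P := @LocallyOfFiniteType)).mp
    (locallyOfFiniteType_of_comp (Spec.map ψ) hV.fromSpec)
  obtain ⟨g, hg, huniq⟩ := exists_ker_maximal ψ.hom hft
  set p : Spec Γ(S, V) := Spec.map ψ x with hp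
  have hpu : hV.fromSpec p = f.base x := by rw [hp, ← Scheme.Hom.comp_apply, hfac]
  have hpI : p.asIdeal = RingHom.ker ψ.hom := by
    show Ideal.comap ψ.hom x.asIdeal = _
    rw [(Ideal.eq_bot_or_top x.asIdeal).resolve_right x.isPrime.ne_top, RingHom.ker_eq_comap_bot]
  have hup : f.base x ∈ S.basicOpen g := by
    rw [← hpu]
    show p ∈ hV.fromSpec ⁻¹ᵁ S.basicOpen g
    rw [hV.fromSpec_preimage_basicOpen]
    show g ∉ p.asIdeal
    rw [hpI]; exact hg
  refine ⟨S.basicOpen g, hV.basicOpen g, hup, ?_⟩
  rw [← closure_subset_iff_isClosed]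
  rintro ⟨y, hy⟩ hyc
  rw [closure_subtype, Set.image_singleton] at hyc
  obtain ⟨q, rfl⟩ : y ∈ Set.range hV.fromSpec := by
    rw [IsAffineOpen.range_fromSpec]; exact S.basicOpen_le g hy
  have hspec : p ⤳ q := by
    rw [← hV.fromSpec.isEmbedding.isInducing.specializes_iff, hpu]
    exact specializes_iff_mem_closure.mpr hyc
  have hgq : g ∉ q.asIdeal := by
    have : q ∈ hV.fromSpec ⁻¹ᵁ S.basicOpen g := hy
    rwa [hV.fromSpec_preimage_basicOpen] at this
  have hqp : q = p := by
    apply PrimeSpectrum.ext
    rw [hpI]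
    refine huniq _ q.isPrime ?_ hgq
    rw [← hpI]
    exact (PrimeSpectrum.le_iff_specializes p q).mpr hspec
  simp only [Set.mem_singleton_iff, Subtype.mk.injEq]
  rw [hqp, hpu]

lemma locallyOfFiniteType_fromSpecResidueField {u : S} (h : ClosedInAffine u) :
    LocallyOfFiniteType (S.fromSpecResidueField u) := by
  obtain ⟨U, -, hu, hcl⟩ := h
  have hr : Set.range (S.fromSpecResidueField u) ⊆ Set.range U.ι := by
    rw [Scheme.range_fromSpecResidueField, Scheme.Opens.range_ι]
    simpa using hu
  let j := IsOpenImmersion.lift U.ι (S.fromSpecResidueField u) hr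
  have hj : j ≫ U.ι = S.fromSpecResidueField u := IsOpenImmersion.lift_fac ..
  haveI : IsPreimmersion (j ≫ U.ι) := hj.symm ▸ inferInstance
  haveI : IsPreimmersion j := IsPreimmersion.of_comp j U.ι
  have hrange : Set.range j = ({⟨u, hu⟩} : Set ↥U) := by
    have h1 : ∀ y, U.ι (j y) = u := fun y => by
      rw [← Scheme.Hom.comp_apply, hj, Scheme.fromSpecResidueField_apply]
    ext z
    constructor
    · rintro ⟨y, rfl⟩
      exact Subtype.ext (h1 y)
    · intro hz
      refine ⟨default, Subtype.ext ((h1 default).trans ?_)⟩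
      exact (congrArg Subtype.val hz).symm
  haveI : IsClosedImmersion j := IsClosedImmersion.of_isPreimmersion j (hrange ▸ hcl)
  rw [← hj]
  infer_instance

lemma locallyOfFiniteType_fromSpecResidueField_iff (u : S) :
    LocallyOfFiniteType (S.fromSpecResidueField u) ↔ ClosedInAffine u := by
  refine ⟨fun h => ?_, locallyOfFiniteType_fromSpecResidueField⟩
  have hx := closedInAffine_of_specField (k := S.residueField u)
    (S.fromSpecResidueField u) default
  rwa [Scheme.fromSpecResidueField_apply] at hx

/-- The residue point of the spectrum of a field gives an isomorphism. -/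
instance isIso_fromSpecResidueField_specField {k : Type u} [Field k]
    (x : Spec (CommRingCat.of k)) :
    IsIso ((Spec (CommRingCat.of k)).fromSpecResidueField x) := by
  haveI : Subsingleton (Spec (CommRingCat.of k)) :=
    inferInstanceAs (Subsingleton (PrimeSpectrum k))
  have hr : Set.range ((Spec (CommRingCat.of k)).fromSpecResidueField x) = Set.univ := by
    rw [Scheme.range_fromSpecResidueField]
    exact Set.eq_univ_of_forall fun y => Subsingleton.elim y x
  haveI : IsClosedImmersion ((Spec (CommRingCat.of k)).fromSpecResidueField x) :=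
    IsClosedImmersion.of_isPreimmersion _ (hr ▸ isClosed_univ)
  haveI : Surjective ((Spec (CommRingCat.of k)).fromSpecResidueField x) :=
    ⟨Set.range_eq_univ.mp hr⟩
  exact isIso_of_isClosedImmersion_of_surjective _

lemma locallyOfFiniteType_specField_iff {k : Type u} [Field k] (f : Spec (CommRingCat.of k) ⟶ S)
    (x : Spec (CommRingCat.of k)) :
    LocallyOfFiniteType f ↔
      ClosedInAffine (f.base x) ∧ (f.residueFieldMap x).hom.Finite := by
  set e := (Spec (CommRingCat.of k)).fromSpecResidueField x
  have heq : e ≫ f = Spec.map (f.residueFieldMap x) ≫ S.fromSpecResidueField (f.base x) :=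
    (f.SpecMap_residueFieldMap_fromSpecResidueField x).symm
  have hiff : LocallyOfFiniteType f ↔ LocallyOfFiniteType (e ≫ f) :=
    (MorphismProperty.cancel_left_of_respectsIso @LocallyOfFiniteType e f).symm
  have hfin : LocallyOfFiniteType (Spec.map (f.residueFieldMap x)) ↔
      (f.residueFieldMap x).hom.Finite := by
    rw [HasRingHomProperty.Spec_iff (P := @LocallyOfFiniteType),
      RingHom.finite_iff_finiteType_of_isJacobsonRing]
  rw [hiff, heq]
  constructor
  · intro h
    haveI hf : LocallyOfFiniteType f := hiff.mpr (heq ▸ h)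
    exact ⟨closedInAffine_of_specField f x,
      hfin.mp (locallyOfFiniteType_of_comp _ (S.fromSpecResidueField _))⟩
  · rintro ⟨h1, h2⟩
    haveI := locallyOfFiniteType_fromSpecResidueField h1
    haveI := hfin.mpr h2
    infer_instance

end Groth.Agent.FtPtsLib
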