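import Mathlib

/-!
# Ring lemmas for finite type points

* a field of finite type over `R`: the kernel is maximal in some basic open;
* finite type lifts along surjections with finitely generated nilpotent kernel.
-/

universe u

namespace Groth.Agent.FtPtsLib

open Polynomial

/-- If `k` is a field of finite type over `R` with kernel `p`, then for some `g ∉ p` the only prime
above `p` avoiding `g` is `p`. -/
lemma exists_ker_maximal {R k : Type u} [CommRing R] [Field k] (ψ : R →+* k)
    (hψ : ψ.FiniteType) :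
    ∃ g : R, ψ g ≠ 0 ∧ ∀ q : Ideal R, q.IsPrime → RingHom.ker ψ ≤ q → g ∉ q → q = RingHom.ker ψ := by
  classical
  letI : Algebra R k := ψ.toAlgebra
  haveI hft : Algebra.FiniteType R k := hψ
  let P : Ideal R := RingHom.ker ψ
  haveI : P.IsPrime := RingHom.ker_isPrime ψ
  let B := R ⧸ P
  let ψb : B →+* k := Ideal.Quotient.lift P ψ fun a ha => ha
  have hψb : Function.Injective ψb := RingHom.kerLift_injective ψ
  letI : Algebra B k := ψb.toAlgebra
  let K := FractionRing B
  letI : Algebra K k := (IsFractionRing.lift (K := K) hψb).toAlgebra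
  haveI : IsScalarTower B K k := IsScalarTower.of_algebraMap_eq fun b =>
    (IsFractionRing.lift_algebraMap hψb b).symm
  haveI : IsScalarTower R B k := IsScalarTower.of_algebraMap_eq fun r => rfl
  haveI : IsScalarTower R K k := IsScalarTower.of_algebraMap_eq fun r => by
    rw [IsScalarTower.algebraMap_apply R B k, IsScalarTower.algebraMap_apply B K k,
      ← IsScalarTower.algebraMap_apply R B K]
  haveI : Algebra.FiniteType K k := Algebra.FiniteType.of_restrictScalars_finiteType R K k
  haveI : Module.Finite K k := finite_of_finite_type_of_isJacobsonRing K k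
  -- each element is killed by a polynomial over `R` with leading coefficient outside `P`
  have hpoly : ∀ x : k, ∃ p : R[X], eval₂ ψ x p = 0 ∧ ψ p.leadingCoeff ≠ 0 := by
    intro x
    have hx : IsAlgebraic B x :=
      (IsFractionRing.isAlgebraic_iff B K k).mpr (Algebra.IsAlgebraic.isAlgebraic x)
    obtain ⟨q, hq0, hqx⟩ := hx
    obtain ⟨p, hpq, hdeg⟩ := Polynomial.exists_degree_eq_of_mem_lifts
      ((Polynomial.lifts_iff_coeff_lifts q).mpr fun n =>
        Set.mem_range.mpr (Ideal.Quotient.mk_surjective (I := P) (q.coeff n)))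
    refine ⟨p, ?_, ?_⟩
    · rw [← hqx, ← hpq, aeval_def, eval₂_map]; rfl
    · intro h0
      apply hq0
      rw [← leadingCoeff_eq_zero, ← hpq, leadingCoeff, natDegree_eq_of_degree_eq (hpq ▸ hdeg.symm),
        coeff_map]
      exact Ideal.Quotient.eq_zero_iff_mem.mpr h0
  choose poly hpoly0 hpoly1 using hpoly
  obtain ⟨s, hs⟩ := hft.out
  let g : R := ∏ x ∈ s, (poly x).leadingCoeff
  have hg : ψ g ≠ 0 := by rw [map_prod]; exact Finset.prod_ne_zero_iff.mpr fun x _ => hpoly1 x
  refine ⟨g, hg, fun q hq hPq hgq => ?_⟩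
  let A := Localization.Away g
  let τ : A →+* k := IsLocalization.Away.lift g (g := ψ) (isUnit_iff_ne_zero.mpr hg)
  have hτ : ∀ r, τ (algebraMap R A r) = ψ r := fun r => IsLocalization.Away.lift_eq g _ r
  letI : Algebra A k := τ.toAlgebra
  haveI : IsScalarTower R A k := IsScalarTower.of_algebraMap_eq fun r => (hτ r).symm
  haveI : Algebra.IsIntegral A k := by
    constructor
    intro y
    have hgen : ∀ x ∈ s, IsIntegral A x := by
      intro x hx
      have hu : IsUnit (algebraMap R A (poly x).leadingCoeff) := by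
        refine isUnit_of_dvd_unit ?_ (IsLocalization.Away.algebraMap_isUnit g)
        exact map_dvd _ (Finset.dvd_prod_of_mem _ hx)
      obtain ⟨b, hb⟩ := isUnit_iff_exists_inv.mp hu
      haveI : Nontrivial A := τ.domain_nontrivial
      refine ⟨(poly x).map (algebraMap R A) * C b, ?_, ?_⟩
      · refine monic_mul_C_of_leadingCoeff_mul_eq_one ?_
        rwa [leadingCoeff_map_of_leadingCoeff_ne_zero]
        intro h0
        rw [h0, zero_mul] at hb
        exact zero_ne_one hb
      · rw [eval₂_mul, eval₂_map, ← IsScalarTower.algebraMap_eq R A k,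
          show algebraMap R k = ψ from rfl, hpoly0, zero_mul]
    have hle : Algebra.adjoin R (s : Set k) ≤ (integralClosure A k).restrictScalars R :=
      Algebra.adjoin_le hgen
    exact hle (hs ▸ Algebra.mem_top)
  have hmax : (RingHom.ker τ).IsMaximal := by
    rw [RingHom.ker_eq_comap_bot]
    exact Ideal.isMaximal_comap_of_isIntegral_of_isMaximal (R := A) (S := k) ⊥
  have hd : Disjoint (Submonoid.powers g : Set R) (q : Set R) :=
    (Ideal.disjoint_powers_iff_notMem g hq.isRadical).mpr hgq
  have hqA : (q.map (algebraMap R A)).IsPrime :=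
    IsLocalization.isPrime_of_isPrime_disjoint (Submonoid.powers g) A q hq hd
  have hle : RingHom.ker τ ≤ q.map (algebraMap R A) := by
    intro a ha
    obtain ⟨⟨r, m⟩, hr⟩ := IsLocalization.surj (Submonoid.powers g) a
    have hrP : r ∈ P := by
      show ψ r = 0
      rw [← hτ, ← hr, map_mul, RingHom.mem_ker.mp ha, zero_mul]
    have hu := IsLocalization.map_units A m
    have : a * algebraMap R A m ∈ q.map (algebraMap R A) :=
      hr ▸ Ideal.mem_map_of_mem _ (hPq hrP)
    exact (Ideal.mul_unit_mem_iff_mem _ hu).mp this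
  have heq := hmax.eq_of_le hqA.ne_top hle
  refine le_antisymm ?_ hPq
  intro r hr
  show ψ r = 0
  rw [← hτ]
  exact RingHom.mem_ker.mp (heq ▸ Ideal.mem_map_of_mem _ hr)

/-- Finite type can be checked modulo a finitely generated nilpotent ideal. -/
lemma finiteType_of_nilpotent {R A C : Type u} [CommRing R] [CommRing A] [CommRing C]
    (ψ : R →+* A) (π : A →+* C) (hπ : Function.Surjective π) (hfg : (RingHom.ker π).FG)
    (hnil : IsNilpotent (RingHom.ker π)) (h : (π.comp ψ).FiniteType) : ψ.FiniteType := by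
  classical
  letI : Algebra R A := ψ.toAlgebra
  letI : Algebra R C := (π.comp ψ).toAlgebra
  let πa : A →ₐ[R] C := { π with commutes' := fun r => rfl }
  obtain ⟨s, hs⟩ := (h : Algebra.FiniteType R C).out
  obtain ⟨t, ht⟩ := hfg
  choose σ hσ using hπ
  let B := Algebra.adjoin R ((s.image σ ∪ t : Finset A) : Set A)
  refine ⟨⟨s.image σ ∪ t, ?_⟩⟩
  set m := RingHom.ker π with hm
  have hBsurj : ∀ c : C, ∃ b ∈ B, π b = c := by
    intro c
    have : Algebra.adjoin R (s : Set C) ≤ B.map πa := by
      refine Algebra.adjoin_le fun x hx => ⟨σ x, Algebra.subset_adjoin ?_, hσ x⟩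
      simp only [Finset.coe_union, Finset.coe_image]
      exact Or.inl ⟨x, hx, rfl⟩
    obtain ⟨b, hb, rfl⟩ := this (hs ▸ Algebra.mem_top : c ∈ Algebra.adjoin R (s : Set C))
    exact ⟨b, hb, rfl⟩
  have hstep : ∀ n, ∀ x : A, ∃ b ∈ B, x - b ∈ m ^ n := by
    intro n
    induction n with
    | zero => exact fun x => ⟨0, B.zero_mem, by simp⟩
    | succ n ih =>
      intro x
      obtain ⟨b, hb, hxb⟩ := ih x
      suffices ∀ y ∈ m ^ n, ∃ b ∈ B, y - b ∈ m ^ (n + 1) by
        obtain ⟨b', hb', h'⟩ := this _ hxb
        exact ⟨b + b', B.add_mem hb hb', by rwa [← sub_sub]⟩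
      intro y hy
      have hspan : m ^ n ≤ Ideal.span ((B : Set A) ∩ (m ^ n : Ideal A)) := by
        clear hy hxb ih
        induction n with
        | zero =>
          intro z _
          have h1 : (1 : A) ∈ Ideal.span ((B : Set A) ∩ ((m ^ 0 : Ideal A) : Set A)) :=
            Ideal.subset_span ⟨B.one_mem, by simp⟩
          simpa using Ideal.mul_mem_left _ z h1
        | succ n ihn =>
          rw [pow_succ]
          refine (Ideal.mul_mono ihn ht.ge).trans ?_
          rw [Ideal.span_mul_span']
          refine Ideal.span_mono ?_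
          rintro _ ⟨a, ⟨ha, ha'⟩, b', hb', rfl⟩
          refine ⟨B.mul_mem ha (Algebra.subset_adjoin ?_), Ideal.mul_mem_mul ha' ?_⟩
          · simp only [Finset.coe_union]; exact Or.inr hb'
          · rw [← ht]; exact Submodule.subset_span hb'
      have hle : Ideal.span ((B : Set A) ∩ (m ^ n : Ideal A)) ≤ m ^ n :=
        Ideal.span_le.mpr fun z hz => hz.2
      induction hspan hy using Submodule.span_induction with
      | mem z hz => exact ⟨z, hz.1, by simp⟩
      | zero => exact ⟨0, B.zero_mem, by simp⟩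
      | add z w _ _ h1 h2 =>
        obtain ⟨b1, hb1, h1⟩ := h1 (hle (by assumption))
        obtain ⟨b2, hb2, h2⟩ := h2 (hle (by assumption))
        exact ⟨b1 + b2, B.add_mem hb1 hb2, by
          rw [add_sub_add_comm]; exact Ideal.add_mem _ h1 h2⟩
      | smul a z hz h1 =>
        obtain ⟨b1, hb1, h1⟩ := h1 (hle hz)
        obtain ⟨a0, ha0, hπa⟩ := hBsurj (π a)
        have hμ : a - a0 ∈ m := by rw [hm, RingHom.mem_ker, map_sub, hπa, sub_self]
        refine ⟨a0 * b1, B.mul_mem ha0 hb1, ?_⟩
        have : a • z - a0 * b1 = z * (a - a0) + a0 * (z - b1) := by rw [smul_eq_mul]; ring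
        rw [this]
        refine Ideal.add_mem _ ?_ (Ideal.mul_mem_left _ _ h1)
        rw [pow_succ]
        exact Ideal.mul_mem_mul (hle hz) hμ
  obtain ⟨N, hN⟩ := hnil
  rw [eq_top_iff]
  intro x _
  obtain ⟨b, hb, hx⟩ := hstep N x
  rw [hN, Ideal.zero_eq_bot, Ideal.mem_bot, sub_eq_zero] at hx
  exact hx ▸ hb

end Groth.Agent.FtPtsLib
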